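import Groth.Agent.RefinedNN.Basic
import Groth.Agent.DimTrdeg.Basic
import Groth.Agent.FibreSpec.Basic
import Mathlib

/-!
Quasi-finite maps from polynomial rings with prescribed inverse image of a prime.
-/

set_option autoImplicit false
set_option maxHeartbeats 1000000
universe u
open MvPolynomial
open scoped TensorProduct

namespace Groth.Agent.PrescQF

variable {R : Type u} [CommRing R]

/-- Projection onto the first `r` variables. -/
noncomputable def proj (A : Type u) [CommRing A] (n r : ℕ) : MvPolynomial (Fin n) A →ₐ[A] MvPolynomial (Fin r) A :=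
  aeval fun i => if h : (i : ℕ) < r then X ⟨i, h⟩ else 0

theorem sub_proj_mem {A : Type u} [CommRing A] {n r : ℕ} (hr : r ≤ n) (a : MvPolynomial (Fin n) A) :
    a - rename (Fin.castLE hr) (proj A n r a) ∈
      Ideal.span (Set.range fun i : {i : Fin n // r ≤ (i : ℕ)} => (X (i : Fin n) : MvPolynomial (Fin n) A)) := by
  rw [← Ideal.Quotient.eq_zero_iff_mem, map_sub, sub_eq_zero]
  set J := Ideal.span (Set.range fun i : {i : Fin n // r ≤ (i : ℕ)} => (X (i : Fin n) : MvPolynomial (Fin n) A))
  have : Ideal.Quotient.mkₐ A J = (Ideal.Quotient.mkₐ A J).comp ((rename (Fin.castLE hr)).comp (proj A n r)) := by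
    refine MvPolynomial.algHom_ext fun j => ?_
    by_cases hj : (j : ℕ) < r
    · simp [proj, hj]
    · simp only [proj, AlgHom.comp_apply, aeval_X, dif_neg hj, map_zero]
      exact Ideal.Quotient.eq_zero_iff_mem.mpr (Ideal.subset_span ⟨⟨j, not_lt.mp hj⟩, rfl⟩)
  exact AlgHom.congr_fun this a

/-- The ideal `p + (x_r, …)`. -/
theorem ker_map_proj (p : Ideal R) [p.IsPrime] {n r : ℕ} (hr : r ≤ n) :
    RingHom.ker ((MvPolynomial.map (algebraMap R p.ResidueField)).comp (proj R n r).toRingHom) =
      p.map (algebraMap R (MvPolynomial (Fin n) R)) ⊔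
        Ideal.span (Set.range fun i : {i : Fin n // r ≤ (i : ℕ)} => (X (i : Fin n) : MvPolynomial (Fin n) R)) := by
  refine le_antisymm (fun a ha => ?_) (sup_le (Ideal.map_le_iff_le_comap.mpr fun c hc => ?_) (Ideal.span_le.mpr ?_))
  · have h2 : proj R n r a ∈ RingHom.ker (MvPolynomial.map (σ := Fin r) (algebraMap R p.ResidueField)) := ha
    rw [MvPolynomial.ker_map, Ideal.ker_algebraMap_residueField] at h2
    have h3 : rename (Fin.castLE hr) (proj R n r a) ∈ p.map (algebraMap R (MvPolynomial (Fin n) R)) := by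
      have h4 := Ideal.mem_map_of_mem (rename (Fin.castLE hr) : MvPolynomial (Fin r) R →ₐ[R] _).toRingHom h2
      rwa [Ideal.map_map, ← MvPolynomial.algebraMap_eq, AlgHom.toRingHom_eq_coe, AlgHom.comp_algebraMap] at h4
    have := Submodule.add_mem_sup h3 (sub_proj_mem hr a)
    rwa [add_sub_cancel] at this
  · show MvPolynomial.map (algebraMap R p.ResidueField) (proj R n r (C c)) = 0
    simp [proj, Ideal.algebraMap_residueField_eq_zero.2 hc]
  · rintro _ ⟨⟨j, hj⟩, rfl⟩
    show MvPolynomial.map (algebraMap R p.ResidueField) (proj R n r (X j)) = 0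
    simp [proj, not_lt.mpr hj]

/-- Denominators. -/
theorem exists_scale (p : Ideal R) [p.IsPrime] {n : ℕ} (z : MvPolynomial (Fin n) p.ResidueField) :
    ∃ (s : R) (w : MvPolynomial (Fin n) R), algebraMap R p.ResidueField s ≠ 0 ∧
      C (algebraMap R p.ResidueField s) * z = MvPolynomial.map (algebraMap R p.ResidueField) w := by
  induction z using MvPolynomial.induction_on with
  | C a =>
    obtain ⟨c, d, hd, e⟩ := IsFractionRing.div_surjective (A := R ⧸ p) a
    obtain ⟨c, rfl⟩ := Ideal.Quotient.mk_surjective c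
    obtain ⟨d, rfl⟩ := Ideal.Quotient.mk_surjective d
    have hd0 : algebraMap R p.ResidueField d ≠ 0 := fun h => nonZeroDivisors.ne_zero hd
      (Ideal.Quotient.eq_zero_iff_mem.2 (Ideal.algebraMap_residueField_eq_zero.1 h))
    refine ⟨d, C c, hd0, ?_⟩
    rw [map_C, ← map_mul, ← e]
    congr 1
    show algebraMap R p.ResidueField d * (algebraMap R p.ResidueField c / algebraMap R p.ResidueField d) = _
    field_simp
  | add a b ha hb =>
    obtain ⟨s, v, hs, hv⟩ := ha
    obtain ⟨t, w, ht, hw⟩ := hb
    refine ⟨s * t, C t * v + C s * w, by rw [map_mul]; exact mul_ne_zero hs ht, ?_⟩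
    simp only [map_mul, map_add, map_C, ← hv, ← hw]; ring
  | mul_X a i ha =>
    obtain ⟨s, v, hs, hv⟩ := ha
    exact ⟨s, v * X i, hs, by rw [map_mul, map_X, ← hv, mul_assoc]⟩

theorem finite_fibre_aux (p : Ideal R) [p.IsPrime] {n : ℕ} (w : Fin n → MvPolynomial (Fin n) R)
    {B1 : Type u} [CommRing B1] [Algebra R B1] (eB : MvPolynomial (Fin n) R ≃ₐ[R] B1)
    (hθ : (aeval fun i => MvPolynomial.map (algebraMap R p.ResidueField) (w i) :
      MvPolynomial (Fin n) p.ResidueField →ₐ[p.ResidueField] MvPolynomial (Fin n) p.ResidueField).toRingHom.Finite)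
    (P1 : PrimeSpectrum (MvPolynomial (Fin n) R)) (hP1 : P1.asIdeal.comap C = p) :
    (PrimeSpectrum.comap (eB.toAlgHom.comp (aeval w)).toRingHom ⁻¹' {P1}).Finite := by
  set θ := (aeval fun i => MvPolynomial.map (algebraMap R p.ResidueField) (w i) :
      MvPolynomial (Fin n) p.ResidueField →ₐ[p.ResidueField] MvPolynomial (Fin n) p.ResidueField)
  let φ1 : (MvPolynomial (Fin n) R) →+* B1 := (eB.toAlgHom.comp (aeval w)).toRingHom
  letI iA : Algebra (MvPolynomial (Fin n) R) B1 := φ1.toAlgebra
  let K1 := P1.asIdeal.ResidueField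
  let F := P1.asIdeal.Fiber B1
  have heC : ∀ c : R, eB (C c) = algebraMap R B1 c := fun c => eB.commutes c
  let ρ : p.ResidueField →+* K1 := Ideal.ResidueField.map p P1.asIdeal C hP1.symm
  let inc : B1 →+* F := Algebra.TensorProduct.includeRight.toRingHom
  let χ : MvPolynomial (Fin n) p.ResidueField →+* K1 := eval₂Hom ρ fun i => algebraMap (MvPolynomial (Fin n) R) K1 (X i)
  let ξ : MvPolynomial (Fin n) p.ResidueField →+* F :=
    eval₂Hom ((algebraMap K1 F).comp ρ) fun i => inc (eB (X i))
  have hρ : ∀ c : R, ρ (algebraMap R p.ResidueField c) = algebraMap (MvPolynomial (Fin n) R) K1 (C c) := fun c =>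
    Ideal.ResidueField.map_algebraMap ..
  have hinc : ∀ a : (MvPolynomial (Fin n) R), inc (φ1 a) = algebraMap K1 F (algebraMap (MvPolynomial (Fin n) R) K1 a) := fun a =>
    ((Algebra.TensorProduct.includeRight : B1 →ₐ[(MvPolynomial (Fin n) R)] F).commutes a).trans
      (IsScalarTower.algebraMap_apply (MvPolynomial (Fin n) R) K1 F a)
  have hξm : ξ.comp (MvPolynomial.map (algebraMap R p.ResidueField)) = inc.comp eB.toAlgHom.toRingHom := by
    refine MvPolynomial.ringHom_ext (fun c => ?_) fun i => by simp [ξ]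
    simp only [ξ, RingHom.comp_apply, map_C, eval₂Hom_C, hρ, ← hinc]
    simp [φ1, heC, bind₁_C_right, bind₁_X_right]
  have hξθ : ξ.comp θ.toRingHom = (algebraMap K1 F).comp χ := by
    refine MvPolynomial.ringHom_ext (fun c => ?_) fun i => ?_
    · simp [ξ, χ, θ]
    · show ξ (θ (X i)) = algebraMap K1 F (χ (X i))
      simp only [θ, χ, aeval_X, eval₂Hom_X', ← hinc]
      rw [← RingHom.comp_apply, hξm]
      simp [φ1, heC, bind₁_C_right, bind₁_X_right]
  have hX : ∀ i, IsIntegral K1 (inc (eB (X i))) := fun i => by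
    obtain ⟨P, hP, he⟩ := hθ.to_isIntegral (X i)
    refine ⟨P.map χ, hP.map χ, ?_⟩
    rw [Polynomial.eval₂_map, ← hξθ, show inc (eB (X i)) = ξ (X i) by simp [ξ], ← Polynomial.hom_eval₂, he, map_zero]
  haveI : Algebra.IsIntegral K1 F := ⟨fun z => by
    induction z using TensorProduct.induction_on with
    | zero => exact isIntegral_zero
    | add a b ha hb => exact ha.add hb
    | tmul c b =>
      have : c ⊗ₜ[(MvPolynomial (Fin n) R)] b = algebraMap K1 F c * inc b := by simp [inc, F]; rfl
      rw [this]
      refine isIntegral_algebraMap.mul ?_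
      obtain ⟨b, rfl⟩ := eB.surjective b
      clear this
      induction b using MvPolynomial.induction_on with
      | C c =>
        have : eB (C c) = φ1 (C c) := by simp [φ1, heC, bind₁_C_right, bind₁_X_right]
        rw [this, hinc]; exact isIntegral_algebraMap
      | add a b ha hb => rw [map_add, map_add]; exact ha.add hb
      | mul_X a i ha => rw [map_mul, map_mul]; exact ha.mul (hX i)⟩
  haveI : IsScalarTower R (MvPolynomial (Fin n) R) B1 := IsScalarTower.of_algebraMap_eq fun c => by
    show algebraMap R B1 c = φ1 (C c)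
    simp [φ1, heC, bind₁_C_right, bind₁_X_right]
  haveI : Algebra.FiniteType (MvPolynomial (Fin n) R) B1 := (haveI : Algebra.FiniteType R B1 := Algebra.FiniteType.equiv inferInstance eB; Algebra.FiniteType.of_restrictScalars_finiteType R _ _)
  haveI : Algebra.FiniteType K1 F := inferInstance
  haveI : Module.Finite K1 F := Algebra.IsIntegral.finite
  haveI : IsArtinianRing F := IsArtinianRing.of_finite K1 F
  haveI : Finite ↥(PrimeSpectrum.comap φ1 ⁻¹' {P1}) :=
    Finite.of_equiv _ (PrimeSpectrum.preimageHomeomorphFiber (MvPolynomial (Fin n) R) B1 P1).toEquiv.symm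
  exact Set.toFinite _

theorem finite_fibre (p : Ideal R) [p.IsPrime] {n : ℕ} (w : Fin n → MvPolynomial (Fin n) R)
    (hθ : (aeval fun i => MvPolynomial.map (algebraMap R p.ResidueField) (w i) :
      MvPolynomial (Fin n) p.ResidueField →ₐ[p.ResidueField] MvPolynomial (Fin n) p.ResidueField).toRingHom.Finite)
    (P1 : PrimeSpectrum (MvPolynomial (Fin n) R)) (hP1 : P1.asIdeal.comap C = p) :
    (PrimeSpectrum.comap (aeval w : MvPolynomial (Fin n) R →ₐ[R] MvPolynomial (Fin n) R).toRingHom ⁻¹' {P1}).Finite :=
  finite_fibre_aux p w AlgEquiv.refl hθ P1 hP1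

/-- A map with finite fibre over the image of a prime is quasi-finite there. -/
theorem quasiFiniteAt_of_finite_fibre {A C : Type u} [CommRing A] [CommRing C] [Algebra A C]
    [Algebra.FiniteType A C] (q : PrimeSpectrum C)
    (h : (PrimeSpectrum.comap (algebraMap A C) ⁻¹' {PrimeSpectrum.comap (algebraMap A C) q}).Finite) :
    Algebra.QuasiFiniteAt A q.asIdeal := by
  refine Algebra.QuasiFiniteAt.of_isOpen_singleton_fiber q ?_
  set P := PrimeSpectrum.comap (algebraMap A C) q
  haveI := h.to_subtype
  haveI : Finite (PrimeSpectrum (P.asIdeal.Fiber C)) :=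
    Finite.of_equiv _ (PrimeSpectrum.preimageHomeomorphFiber A C P).toEquiv
  haveI : IsJacobsonRing (P.asIdeal.Fiber C) := isJacobsonRing_of_finiteType (A := P.asIdeal.ResidueField)
  haveI : DiscreteTopology ↥(PrimeSpectrum.comap (algebraMap A C) ⁻¹' {P}) :=
    (PrimeSpectrum.preimageHomeomorphFiber A C P).symm.discreteTopology
  exact isOpen_discrete _

/-- Shrinking to a principal open of `Spec S`. -/
theorem exists_shrink {S : Type u} [CommRing S] [Algebra R S] [Algebra.FiniteType R S] (q : Ideal S) [q.IsPrime]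
    {n : ℕ} (g : S) (hg : g ∉ q) (φ : MvPolynomial (Fin n) R →ₐ[R] Localization.Away g)
    (qC : Ideal (Localization.Away g)) [qC.IsPrime] (hqC : qC.comap (algebraMap S _) = q)
    (hφ : letI := φ.toRingHom.toAlgebra; Algebra.QuasiFiniteAt (MvPolynomial (Fin n) R) qC) :
    ∃ g' : S, g' ∉ q ∧ ∃ φ' : MvPolynomial (Fin n) R →ₐ[R] Localization.Away g',
      φ'.toRingHom.FiniteType ∧ φ'.toRingHom.QuasiFinite ∧
        (q.map (algebraMap S (Localization.Away g'))).comap φ' = qC.comap φ := by
  let C := Localization.Away g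
  letI : Algebra (MvPolynomial (Fin n) R) C := φ.toRingHom.toAlgebra
  haveI : IsScalarTower R (MvPolynomial (Fin n) R) C :=
    IsScalarTower.of_algebraMap_eq fun a => (φ.commutes a).symm
  haveI : Algebra.FiniteType R C := Algebra.FiniteType.trans (S := S) inferInstance inferInstance
  haveI : Algebra.FiniteType (MvPolynomial (Fin n) R) C :=
    Algebra.FiniteType.of_restrictScalars_finiteType R _ _
  haveI : Algebra.QuasiFiniteAt (MvPolynomial (Fin n) R) qC := hφ
  obtain ⟨r, hrp, _⟩ := FibreSpec.exists_quasiFinite_away (R := MvPolynomial (Fin n) R) qC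
  obtain ⟨k, a, ha⟩ := IsLocalization.Away.surj g r
  have hga' : g * a ∉ q := fun hmem => by
    rcases (inferInstance : q.IsPrime).mem_or_mem hmem with h | h
    · exact hg h
    · apply hrp
      have h1 : algebraMap S C a ∈ qC := by
        show a ∈ qC.comap (algebraMap S C)
        rw [hqC]; exact h
      rw [← ha] at h1
      refine ((inferInstance : qC.IsPrime).mem_or_mem h1).resolve_right fun h2 =>
        (inferInstance : qC.IsPrime).ne_top
          (Ideal.eq_top_of_isUnit_mem _ h2 ((IsLocalization.Away.algebraMap_isUnit g).pow k))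
  let D := Localization.Away (g * a)
  have hu : IsUnit (algebraMap S D g * algebraMap S D a) := by
    rw [← map_mul]; exact IsLocalization.Away.algebraMap_isUnit (g * a)
  have hug : IsUnit (algebraMap S D g) := isUnit_of_mul_isUnit_left hu
  let ι : C →ₐ[R] D :=
    { IsLocalization.Away.lift (g := algebraMap S D) g hug with
      commutes' := fun c => by
        show IsLocalization.Away.lift g hug (algebraMap R C c) = _
        rw [IsScalarTower.algebraMap_apply R S C, IsLocalization.Away.lift_eq, ← IsScalarTower.algebraMap_apply R S D] }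
  have hι : ∀ s, ι (algebraMap S C s) = algebraMap S D s := fun s => IsLocalization.Away.lift_eq g hug s
  refine ⟨g * a, hga', ι.comp φ, ?_, ?_, ?_⟩
  · refine RingHom.FiniteType.of_comp_finiteType (f := algebraMap R (MvPolynomial (Fin n) R)) ?_
    rw [AlgHom.toRingHom_eq_coe, AlgHom.comp_algebraMap, RingHom.finiteType_algebraMap]
    exact Algebra.FiniteType.trans (S := S) inferInstance inferInstance
  · letI : Algebra (MvPolynomial (Fin n) R) D := (ι.comp φ).toRingHom.toAlgebra
    show Algebra.QuasiFinite (MvPolynomial (Fin n) R) D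
    have hur : IsUnit (ι r) := by
      have h1 : ι r * ι (algebraMap S C g) ^ k = algebraMap S D a := by
        rw [← map_pow, ← map_mul, ha, hι]
      exact isUnit_of_mul_isUnit_left (h1 ▸ isUnit_of_mul_isUnit_right hu)
    let ψ : Localization.Away r →ₐ[MvPolynomial (Fin n) R] D :=
      { IsLocalization.Away.lift (g := ι.toRingHom) r hur with
        commutes' := fun c => by
          show IsLocalization.Away.lift r hur (algebraMap _ (Localization.Away r) c) = _
          rw [IsScalarTower.algebraMap_apply (MvPolynomial (Fin n) R) C (Localization.Away r),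
            IsLocalization.Away.lift_eq]
          rfl }
    have hψ : ∀ c, ψ (algebraMap C (Localization.Away r) c) = ι c := fun c => IsLocalization.Away.lift_eq r hur c
    refine Algebra.QuasiFinite.of_surjective_algHom ψ fun x => ?_
    obtain ⟨m, s, hs⟩ := IsLocalization.Away.surj (g * a) x
    have hga : IsUnit (algebraMap C (Localization.Away r) (algebraMap S C (g * a))) := by
      rw [map_mul, ← ha, map_mul, map_mul]
      exact ((IsLocalization.Away.algebraMap_isUnit g).map _).mul
        ((IsLocalization.Away.algebraMap_isUnit r).mul (((IsLocalization.Away.algebraMap_isUnit g).pow k).map _))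
    refine ⟨algebraMap C (Localization.Away r) (algebraMap S C s) * ((hga.pow m).unit⁻¹ : (Localization.Away r)ˣ), ?_⟩
    have hu' : IsUnit (algebraMap S D (g * a) ^ m) := (IsLocalization.Away.algebraMap_isUnit (g * a)).pow m
    refine hu'.mul_right_cancel ?_
    rw [hs, map_mul, hψ, hι, mul_assoc]
    have h2 : algebraMap S D (g * a) ^ m = ψ (((hga.pow m).unit : (Localization.Away r)ˣ) : Localization.Away r) := by
      rw [IsUnit.unit_spec, map_pow, hψ, hι]
    rw [h2, ← map_mul, Units.inv_mul, map_one, mul_one]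
  · have hdis : Disjoint (Submonoid.powers (g * a) : Set S) (q : Set S) :=
      Set.disjoint_left.mpr fun z hzp hz => by
        obtain ⟨m, rfl⟩ := hzp
        exact hga' (Ideal.IsPrime.mem_of_pow_mem inferInstance m hz)
    have h1 : ((q.map (algebraMap S D)).comap ι).comap (algebraMap S C) = q := by
      show (q.map (algebraMap S D)).comap (ι.toRingHom.comp (algebraMap S C)) = q
      rw [show ι.toRingHom.comp (algebraMap S C) = algebraMap S D from RingHom.ext hι]
      exact IsLocalization.comap_map_of_isPrime_disjoint (Submonoid.powers (g * a)) D inferInstance hdis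
    haveI : ((q.map (algebraMap S D)).comap ι).IsPrime :=
      haveI := IsLocalization.isPrime_of_isPrime_disjoint (Submonoid.powers (g * a)) D q inferInstance hdis
      Ideal.comap_isPrime ι _
    have h2 : (q.map (algebraMap S D)).comap ι = qC := by
      rw [← IsLocalization.map_comap (Submonoid.powers g) C ((q.map (algebraMap S D)).comap ι),
        ← IsLocalization.map_comap (Submonoid.powers g) C qC]
      exact congrArg (Ideal.map (algebraMap S C)) (h1.trans hqC.symm)
    rw [← h2]
    rfl

end Groth.Agent.PrescQF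

namespace Groth.Agent.PrescQF

variable {R : Type u} [CommRing R]

theorem proj_eq_zero_iff {A : Type u} [CommRing A] {n r : ℕ} (hr : r ≤ n) (a : MvPolynomial (Fin n) A) :
    proj A n r a = 0 ↔
      a ∈ Ideal.span (Set.range fun i : {i : Fin n // r ≤ (i : ℕ)} => (X (i : Fin n) : MvPolynomial (Fin n) A)) := by
  refine ⟨fun h => ?_, fun h => ?_⟩
  · simpa [h] using sub_proj_mem hr a
  · have : Ideal.span (Set.range fun i : {i : Fin n // r ≤ (i : ℕ)} => (X (i : Fin n) : MvPolynomial (Fin n) A)) ≤
        RingHom.ker (proj A n r).toRingHom := by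
      refine Ideal.span_le.mpr ?_
      rintro _ ⟨⟨j, hj⟩, rfl⟩
      simp [proj, not_lt.mpr hj]
    exact this h

/-- Quasi-finite map from a polynomial ring with prescribed inverse image of `q`. -/
theorem exists_prescribed {S : Type u} [CommRing S] [Algebra R S] [Algebra.FiniteType R S]
    (p : Ideal R) [p.IsPrime] (q : Ideal S) [q.IsPrime] [q.LiesOver p]
    [Algebra (Localization.AtPrime p) (Localization.AtPrime q)] [Localization.AtPrime.IsLiesOverAlgebra p q]
    (Q : PrimeSpectrum (p.Fiber S))
    (hQ : Q.asIdeal.comap (Algebra.TensorProduct.includeRight.toRingHom) = q) (n r : ℕ)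
    (hdim : FlatMor.localDim (PrimeSpectrum (p.Fiber S)) Q = (n : WithBot ℕ∞))
    (hr : Algebra.trdeg p.ResidueField q.ResidueField = r) :
    ∃ g : S, g ∉ q ∧ ∃ φ : MvPolynomial (Fin n) R →ₐ[R] Localization.Away g,
      φ.toRingHom.FiniteType ∧ φ.toRingHom.QuasiFinite ∧
        (q.map (algebraMap S (Localization.Away g))).comap φ =
          p.map (algebraMap R (MvPolynomial (Fin n) R)) ⊔
            Ideal.span (Set.range fun i : {i : Fin n // r ≤ (i : ℕ)} => (X (i : Fin n) : MvPolynomial (Fin n) R)) := by
  classical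
  obtain ⟨g, hg, φ0, hft, hqf⟩ := FibreSpec.exists_away_quasiFinite p q Q hQ n hdim
  let C := Localization.Away g
  haveI : Algebra.FiniteType R C := Algebra.FiniteType.trans (S := S) inferInstance inferInstance
  have hdis : Disjoint (Submonoid.powers g : Set S) (q : Set S) :=
    Set.disjoint_left.mpr fun z hzp hz => by
      obtain ⟨m, rfl⟩ := hzp
      exact hg (Ideal.IsPrime.mem_of_pow_mem inferInstance m hz)
  set qC := q.map (algebraMap S C)
  haveI : qC.IsPrime := IsLocalization.isPrime_of_isPrime_disjoint (Submonoid.powers g) C q inferInstance hdis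
  have hqC : qC.comap (algebraMap S C) = q :=
    IsLocalization.comap_map_of_isPrime_disjoint (Submonoid.powers g) C inferInstance hdis
  let L := q.ResidueField
  have hgu : IsUnit (algebraMap S L g) :=
    isUnit_iff_ne_zero.2 fun h => hg (Ideal.algebraMap_residueField_eq_zero.1 h)
  let liftL : C →+* L := IsLocalization.Away.lift g hgu
  have hliftL : ∀ s, liftL (algebraMap S C s) = algebraMap S L s := fun s => IsLocalization.Away.lift_eq g hgu s
  have hker : RingHom.ker liftL = qC := by
    rw [← IsLocalization.map_comap (Submonoid.powers g) C (RingHom.ker liftL), Ideal.under_def, RingHom.comap_ker,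
      show liftL.comp (algebraMap S C) = algebraMap S L from RingHom.ext hliftL, Ideal.ker_algebraMap_residueField]
  have hR : ∀ c : R, liftL (algebraMap R C c) = algebraMap p.ResidueField L (algebraMap R p.ResidueField c) := fun c => by
    rw [IsScalarTower.algebraMap_apply R S C, hliftL, ← IsScalarTower.algebraMap_apply R S L,
      ← IsScalarTower.algebraMap_apply R p.ResidueField L]
  let κ := p.ResidueField
  let e : MvPolynomial (Fin n) κ →ₐ[κ] L := aeval fun i => liftL (φ0 (X i))
  let m : MvPolynomial (Fin n) R →+* MvPolynomial (Fin n) κ := MvPolynomial.map (algebraMap R κ)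
  have hem : e.toRingHom.comp m = liftL.comp φ0.toRingHom := by
    refine MvPolynomial.ringHom_ext (fun c => ?_) fun i => by simp [e, m]
    show e (m (MvPolynomial.C c)) = liftL (φ0 (MvPolynomial.C c))
    rw [← MvPolynomial.algebraMap_eq, φ0.commutes, hR]
    simp [e, m, κ]
  letI i0 : Algebra (MvPolynomial (Fin n) R) C := φ0.toRingHom.toAlgebra
  haveI : IsScalarTower R (MvPolynomial (Fin n) R) C := IsScalarTower.of_algebraMap_eq fun a => (φ0.commutes a).symm
  haveI : Algebra.FiniteType (MvPolynomial (Fin n) R) C := hft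
  haveI hQF : Algebra.QuasiFinite (MvPolynomial (Fin n) R) C := hqf
  have halg : Algebra.IsAlgebraic e.range L := by
    obtain ⟨ρ, hρ, hρint, hall⟩ := Algebra.zariskisMainProperty_iff.1
      (Algebra.ZariskisMainProperty.of_finiteType (R := MvPolynomial (Fin n) R) qC)
    let ψ : MvPolynomial (Fin n) R →+* e.range := (e.toRingHom.comp m).codRestrict e.range.toSubring fun z =>
      ⟨m z, rfl⟩
    have hmap : ∀ z : C, IsIntegral (MvPolynomial (Fin n) R) z → IsAlgebraic e.range (liftL z) := fun z hz =>
      (hz.map_of_comp_eq ψ liftL (RingHom.ext fun x => (RingHom.congr_fun hem x).trans rfl)).isAlgebraic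
    have hρ0 : liftL ρ ≠ 0 := fun h => hρ (hker ▸ h)
    have hS : ∀ s : S, IsAlgebraic e.range (algebraMap S L s) := fun s => by
      obtain ⟨j, hj⟩ := hall (algebraMap S C s)
      rw [← hliftL]
      refine IsAlgebraic.of_mul (mem_nonZeroDivisors_of_ne_zero (pow_ne_zero j hρ0)) ?_ ?_
      · rw [← map_pow]; exact hmap _ (hρint.pow j)
      · rw [← map_pow, ← map_mul]; exact hmap _ hj
    refine ⟨fun z => ?_⟩
    obtain ⟨a, b, hb, rfl⟩ := IsFractionRing.div_surjective (A := S ⧸ q) z
    obtain ⟨a, rfl⟩ := Ideal.Quotient.mk_surjective a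
    obtain ⟨b, rfl⟩ := Ideal.Quotient.mk_surjective b
    have hb0 : algebraMap S L b ≠ 0 := fun h => nonZeroDivisors.ne_zero hb
      (Ideal.Quotient.eq_zero_iff_mem.2 (Ideal.algebraMap_residueField_eq_zero.1 h))
    show IsAlgebraic e.range (algebraMap S L a / algebraMap S L b)
    refine IsAlgebraic.of_mul (mem_nonZeroDivisors_of_ne_zero hb0) (hS b) ?_
    rw [mul_comm, div_mul_cancel₀ _ hb0]
    exact hS a
  have hdimr : ringKrullDim (MvPolynomial (Fin n) κ ⧸ RingHom.ker e) = r := by
    haveI : Algebra.FiniteType κ e.range :=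
      Algebra.FiniteType.of_surjective e.rangeRestrict e.rangeRestrict_surjective
    obtain ⟨t, ht, ht'⟩ := DimTrdeg.exists_trdeg_eq_ringKrullDim κ e.range
    haveI := halg
    haveI : FaithfulSMul κ e.range :=
      (faithfulSMul_iff_algebraMap_injective κ e.range).2 (algebraMap κ e.range).injective
    haveI : FaithfulSMul e.range L :=
      (faithfulSMul_iff_algebraMap_injective e.range L).2 Subtype.val_injective
    have h1 : Algebra.trdeg κ L = Algebra.trdeg κ e.range :=
      DimTrdeg.trdeg_eq_of_isAlgebraic κ e.range L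
    rw [hr, ht] at h1
    rw [ringKrullDim_eq_of_ringEquiv (Ideal.quotientKerEquivRange e).toRingEquiv, ht', Nat.cast_inj.mp h1]
  haveI : (RingHom.ker e).IsPrime := RingHom.ker_isPrime e
  obtain ⟨r', hr', θ, hθ, hθc⟩ := RefinedNN.exists_normalization n (RingHom.ker e)
  obtain rfl : r = r' := by
    let ψ := Ideal.quotientMap (RingHom.ker e) θ.toRingHom hθc.ge
    letI := ψ.toAlgebra
    have hψ : Function.Injective ψ := Ideal.quotientMap_injective' hθc.le
    haveI : Module.Finite (MvPolynomial (Fin n) κ ⧸ RefinedNN.tailIdeal κ n r') (MvPolynomial (Fin n) κ ⧸ RingHom.ker e) := by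
      show ψ.Finite
      refine RingHom.Finite.of_comp_finite (f := Ideal.Quotient.mk _) ?_
      rw [show ψ.comp (Ideal.Quotient.mk _) = (Ideal.Quotient.mk (RingHom.ker e)).comp θ.toRingHom from
        RingHom.ext fun a => rfl]
      exact (RingHom.Finite.of_surjective _ Ideal.Quotient.mk_surjective).comp hθ
    have := DimTrdeg.ringKrullDim_eq_of_isIntegral
      (MvPolynomial (Fin n) κ ⧸ RefinedNN.tailIdeal κ n r') (MvPolynomial (Fin n) κ ⧸ RingHom.ker e) hψ
    rw [hdimr, RefinedNN.ringKrullDim_quot_tailIdeal κ n r' hr'] at this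
    exact_mod_cast this
  choose s w hs hw using fun i => exists_scale p (θ (X i))
  let σ : MvPolynomial (Fin n) κ →ₐ[κ] MvPolynomial (Fin n) κ :=
    aeval fun i => MvPolynomial.C (algebraMap R κ (s i)) * X i
  let θ' : MvPolynomial (Fin n) κ →ₐ[κ] MvPolynomial (Fin n) κ := aeval fun i => m (w i)
  have hθ' : θ' = θ.comp σ := MvPolynomial.algHom_ext fun i => by
    simp only [θ', σ, m, κ, AlgHom.comp_apply, aeval_X, map_mul, algHom_C, ← hw, MvPolynomial.algebraMap_eq]
  have hσs : Function.Surjective σ := fun z => by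
    refine ⟨aeval (fun i => MvPolynomial.C (algebraMap R κ (s i))⁻¹ * X i) z, ?_⟩
    have : σ.comp (aeval fun i => MvPolynomial.C (algebraMap R κ (s i))⁻¹ * X i) = AlgHom.id κ _ :=
      MvPolynomial.algHom_ext fun i => by
        simp only [σ, AlgHom.comp_apply, AlgHom.id_apply, aeval_X, map_mul, algHom_C, MvPolynomial.algebraMap_eq]
        rw [← mul_assoc, ← map_mul, inv_mul_cancel₀ (hs i), map_one, one_mul]
    exact AlgHom.congr_fun this z
  have hθ'fin : θ'.toRingHom.Finite := by
    rw [hθ']; exact hθ.comp (RingHom.Finite.of_surjective σ.toRingHom hσs)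
  let φ1 : MvPolynomial (Fin n) R →ₐ[R] MvPolynomial (Fin n) R := aeval w
  have hmφ : m.comp φ1.toRingHom = θ'.toRingHom.comp m := by
    refine MvPolynomial.ringHom_ext (fun c => ?_) fun i => by simp [φ1, θ', m]
    simp [φ1, θ', m]
  let φ := φ0.comp φ1
  have hcomap : qC.comap φ = p.map (algebraMap R (MvPolynomial (Fin n) R)) ⊔
      Ideal.span (Set.range fun i : {i : Fin n // r ≤ (i : ℕ)} => (X (i : Fin n) : MvPolynomial (Fin n) R)) := by
    rw [← ker_map_proj p hr']
    ext a
    show φ0 (φ1 a) ∈ qC ↔ MvPolynomial.map (algebraMap R κ) (proj R n r a) = 0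
    rw [← hker, RingHom.mem_ker]
    have h1 : liftL (φ0 (φ1 a)) = e (θ (σ (m a))) := by
      have h2 : liftL (φ0 (φ1 a)) = e (m (φ1 a)) := (RingHom.congr_fun hem (φ1 a)).symm
      rw [h2]
      have h3 : m (φ1 a) = θ' (m a) := RingHom.congr_fun hmφ a
      rw [h3, hθ']; rfl
    rw [h1]
    show σ (m a) ∈ (RingHom.ker e).comap θ ↔ _
    rw [hθc]
    show σ (m a) ∈ Ideal.span _ ↔ _
    rw [← proj_eq_zero_iff hr']
    let σr : MvPolynomial (Fin r) κ →ₐ[κ] MvPolynomial (Fin r) κ :=
      aeval fun i => MvPolynomial.C (algebraMap R κ (s (Fin.castLE hr' i))) * X i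
    let τr : MvPolynomial (Fin r) κ →ₐ[κ] MvPolynomial (Fin r) κ :=
      aeval fun i => MvPolynomial.C (algebraMap R κ (s (Fin.castLE hr' i)))⁻¹ * X i
    have hστ : τr.comp σr = AlgHom.id κ _ := MvPolynomial.algHom_ext fun i => by
      simp only [σr, τr, AlgHom.comp_apply, AlgHom.id_apply, aeval_X, map_mul, algHom_C, MvPolynomial.algebraMap_eq]
      rw [← mul_assoc, ← map_mul, mul_inv_cancel₀ (hs _), map_one, one_mul]
    have h4 : ((proj κ n r).comp σ).toRingHom.comp m =
        σr.toRingHom.comp ((MvPolynomial.map (algebraMap R κ)).comp (proj R n r).toRingHom) := by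
      refine MvPolynomial.ringHom_ext (fun c => ?_) fun i => ?_
      · simp [σr, σ, m, proj]
      · by_cases hi : (i : ℕ) < r <;> simp [σr, σ, m, proj, hi]
    have h5 : proj κ n r (σ (m a)) = σr (MvPolynomial.map (algebraMap R κ) (proj R n r a)) :=
      RingHom.congr_fun h4 a
    rw [h5]
    refine ⟨fun h => ?_, fun h => by rw [h, map_zero]⟩
    have := congrArg τr h
    rw [map_zero, ← AlgHom.comp_apply, hστ, AlgHom.id_apply] at this
    exact this
  let P1 : PrimeSpectrum (MvPolynomial (Fin n) R) :=
    PrimeSpectrum.comap φ.toRingHom ⟨qC, inferInstance⟩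
  have hP1 : P1.asIdeal.comap MvPolynomial.C = p := by
    show (qC.comap φ.toRingHom).comap MvPolynomial.C = p
    rw [Ideal.comap_comap, show φ.toRingHom.comp MvPolynomial.C = algebraMap R C from RingHom.ext φ.commutes,
      IsScalarTower.algebraMap_eq R S C, ← Ideal.comap_comap, hqC]
    exact (Ideal.LiesOver.over (P := q) (p := p)).symm
  have hfinfib : (PrimeSpectrum.comap φ.toRingHom ⁻¹' {P1}).Finite := by
    have h := (finite_fibre p w hθ'fin P1 hP1).preimage'
      (f := PrimeSpectrum.comap (algebraMap (MvPolynomial (Fin n) R) C))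
      fun b _ => Algebra.QuasiFinite.finite_comap_preimage_singleton b
    exact h
  have hQF' : letI := φ.toRingHom.toAlgebra; Algebra.QuasiFiniteAt (MvPolynomial (Fin n) R) qC := by
    letI := φ.toRingHom.toAlgebra
    haveI : IsScalarTower R (MvPolynomial (Fin n) R) C := IsScalarTower.of_algebraMap_eq fun a => (φ.commutes a).symm
    haveI : Algebra.FiniteType (MvPolynomial (Fin n) R) C := Algebra.FiniteType.of_restrictScalars_finiteType R _ _
    exact quasiFiniteAt_of_finite_fibre ⟨qC, inferInstance⟩ hfinfib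
  obtain ⟨g', hg', φ', a1, a2, a3⟩ := exists_shrink q g hg φ qC hqC hQF'
  exact ⟨g', hg', φ', a1, a2, a3.trans hcomap⟩

end Groth.Agent.PrescQF
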